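import Groth.Agent.GrpSchLib.FrobSmooth
import Groth.Agent.GrpSchLib.AVSubgroup
import Groth.Agent.GrpSchLib.KernelGrp
import Groth.Agent.S14820
import Groth.Agent.S7782
import Groth.Agent.S7795
import Groth.Agent.Lib.AVMulN
import Groth.Agent.QCoh.ProperOver
import Groth.Agent.GrpSchLib.AntiAffineHom
import Groth.Agent.PicTangent.GroupLaw

/-!
# The abelian subvariety underlying a proper connected commutative group scheme
-/

set_option autoImplicit false
set_option linter.style.haveILetI false
set_option backward.isDefEq.respectTransparency false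
set_option backward.isDefEq.respectTransparency.types false
set_option maxHeartbeats 1000000

universe u

open CategoryTheory CategoryTheory.Limits AlgebraicGeometry TopologicalSpace MonoidalCategory CartesianMonoidalCategory MonObj

namespace Groth.Agent.PicNormalProper

open Groth.Agent

/-- The group law on a scheme representing the Picard functor is commutative. -/
theorem isCommMonObj {X S : Scheme.{u}} {f : X ⟶ S} {P : Over S}
    {φ : ∀ T : Over S, PicF.Cl (PicF.XT f T) → (T ⟶ P)} (hP : PicRel.IsRelPic f P φ) :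
    letI := PicTangent.GroupLaw.grpObj hP
    IsCommMonObj P := by
  letI := PicTangent.GroupLaw.grpObj hP
  refine ⟨?_⟩
  show (β_ P P).hom ≫ PicTangent.GroupLaw.mul hP (fst P P) (snd P P) = PicTangent.GroupLaw.mul hP (fst P P) (snd P P)
  rw [PicTangent.GroupLaw.comp_mul, braiding_hom_fst, braiding_hom_snd]
  exact PicTangent.GroupLaw.mul_comm' hP _ _

/-- A closed irreducible subset surjecting under a finite map is everything. -/
theorem eq_univ_of_surjective {X Y : Scheme.{u}} (f : X ⟶ Y) [IsFinite f] [IrreducibleSpace X] {Z : Set X}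
    (hZ : IsClosed Z) (h : f '' Z = Set.univ) : Z = Set.univ := by
  obtain ⟨z, hz, hfz⟩ : f (genericPoint X) ∈ f '' Z := h ▸ Set.mem_univ _
  have hd : DiscreteTopology (f ⁻¹' {f (genericPoint X)}) :=
    isDiscrete_iff_discreteTopology.mp (f.isDiscrete_preimage_singleton (f (genericPoint X)))
  have hs : (⟨genericPoint X, rfl⟩ : f ⁻¹' {f (genericPoint X)}) ⤳ ⟨z, hfz⟩ :=
    (subtype_specializes_iff _ _).2 (genericPoint_specializes z)
  have : genericPoint X = z := congrArg Subtype.val hs.eq
  refine Set.eq_univ_of_univ_subset ?_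
  rw [← genericPoint_closure (α := X)]
  exact hZ.closure_subset_iff.2 (Set.singleton_subset_iff.2 (this ▸ hz))

/-- Powers of the identity of a commutative group object are homomorphisms. -/
theorem isMonHom_pow_id {S : Scheme.{u}} (G : Over S) [GrpObj G] [IsCommMonObj G] (n : ℕ) : IsMonHom (𝟙 G ^ n : G ⟶ G) where
  one_hom := by rw [MonObj.comp_pow, Category.comp_id, MonObj.one_eq_one, one_pow]
  mul_hom := by
    rw [MonObj.mul_eq_mul, MonObj.comp_pow, Category.comp_id, MonObj.comp_mul, tensorHom_fst, tensorHom_snd,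
      MonObj.comp_pow, MonObj.comp_pow, Category.comp_id, Category.comp_id, mul_pow]

variable {k : Type u} [Field k]

/-- A proper connected commutative group scheme has an abelian subvariety with the same points. -/
theorem exists_smooth_proper_subgroup (G : Over (Spec (CommRingCat.of k))) [GrpObj G] [IsCommMonObj G] [IsProper G.hom]
    [IrreducibleSpace G.left] :
    ∃ (A : Over (Spec (CommRingCat.of k))) (i : A ⟶ G), IsClosedImmersion i.left ∧ Smooth A.hom ∧ IsProper A.hom ∧
      Set.range i.left = Set.univ := by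
  haveI : LocallyOfFiniteType G.hom := inferInstance
  obtain ⟨p, hp⟩ := CharP.exists k
  rcases CharP.char_is_prime_or_zero k p with hprime | rfl
  rotate_left
  · haveI : CharZero k := CharP.charP_to_charZero k
    exact ⟨G, 𝟙 G, by rw [Over.id_left]; infer_instance, GrpSchLib.smooth_of_charZero G, inferInstance,
      Set.range_eq_univ.2 fun x => ⟨x, rfl⟩⟩
  haveI := Fact.mk hprime
  obtain ⟨I, _, f, hf, hIs, hIq, hff, hfs, hfa⟩ := GrpSchLib.FrobSmooth.exists_smooth_of_charP p G
  haveI := hf; haveI := hIs; haveI := hIq; haveI := hff; haveI := hfs; haveI := hfa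
  haveI : IsSeparated I.hom := GrpSchLib.AntiAffine.isSeparated_grp I
  haveI : IsProper (f.left ≫ I.hom) := by rw [Over.w f]; infer_instance
  haveI : IsProper f.left := IsProper.of_comp f.left I.hom
  haveI : IsFinite f.left := IsFinite.iff_isProper_and_isAffineHom.2 ⟨inferInstance, inferInstance⟩
  haveI : IsProper I.hom := QCoh.isProper_of_comp_surjective f.left I.hom
  haveI : ConnectedSpace I.left := f.left.surjective.connectedSpace f.left.continuous
  haveI : GeometricallyIntegral I.hom := GrpSchLib.AVSubgroup.geometricallyIntegral_group I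
  -- the kernel is killed by its order
  obtain ⟨N, _, j, hj, hjc, -, hjk⟩ := GrpSchLib.exists_kernel f
  haveI := hj; haveI := hjc
  haveI : Mono j.left := inferInstance
  haveI : Mono j := (Over.forget _).mono_of_mono_map (inferInstanceAs (Mono j.left))
  haveI : IsCommMonObj N := ⟨by
    rw [← cancel_mono j, Category.assoc, IsMonHom.mul_hom, ← Category.assoc, BraidedCategory.braiding_naturality j j |>.symm,
      Category.assoc, IsCommMonObj.mul_comm]⟩
  have hN := (hjk.map (Over.forget (Spec (CommRingCat.of k)))).flip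
  haveI : IsFinite (toUnit N).left := MorphismProperty.of_isPullback (P := @IsFinite) hN.flip ‹IsFinite f.left›
  haveI : IsFinite N.hom := by
    rw [← Over.w (toUnit N)]
    exact inferInstanceAs (IsFinite ((toUnit N).left ≫ 𝟙 _))
  haveI : LocallyOfFinitePresentation N.hom := inferInstance
  haveI : Surjective N.hom := ⟨fun s => ⟨η[N].left s, @Subsingleton.elim ↥(Spec (CommRingCat.of k)) inferInstance _ _⟩⟩
  let n := Scheme.Hom.finrank N.hom (IsLocalRing.closedPoint k)
  have hn : 1 ≤ n := (Scheme.Hom.one_le_finrank_iff_surjective (f := N.hom)).2 inferInstance _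
  have hkill : ∀ (T : Over (Spec (CommRingCat.of k))) (g : T ⟶ N), g ^ n = 1 :=
    S7782.result N n fun s => congrArg _ (@Subsingleton.elim ↥(Spec (CommRingCat.of k)) inferInstance _ _)
  -- multiplication by the order descends
  let mG : G ⟶ G := 𝟙 G ^ n
  haveI : EffectiveEpi f.left := inferInstance
  have hd : ∀ {Z : Scheme.{u}} (g₁ g₂ : Z ⟶ G.left), g₁ ≫ f.left = g₂ ≫ f.left → g₁ ≫ mG.left = g₂ ≫ mG.left := by
    intro Z g₁ g₂ e
    let T : Over (Spec (CommRingCat.of k)) := Over.mk (g₁ ≫ G.hom)
    let a : T ⟶ G := Over.homMk g₁ rfl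
    let b : T ⟶ G := Over.homMk g₂ (by
      show g₂ ≫ G.hom = g₁ ≫ G.hom
      rw [← Over.w f, ← Category.assoc, ← e, Category.assoc])
    have hab : (a / b) ≫ f = toUnit T ≫ η[I] := by
      rw [GrpObj.div_comp, show a ≫ f = b ≫ f from Over.OverMorphism.ext e, div_self', MonObj.one_eq_one,
        MonObj.comp_one]
    obtain ⟨t, ht, -⟩ := hjk.exists_lift (a / b) (toUnit T) hab
    have h2 : (a / b) ^ n = 1 := by rw [← ht, ← MonObj.pow_comp, hkill, MonObj.one_comp]
    have h3 : a ^ n = b ^ n := by rwa [div_pow, div_eq_one] at h2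
    have h4 : a ≫ mG = b ≫ mG := by
      simp only [mG, MonObj.comp_pow, Category.comp_id]
      exact h3
    exact congrArg CommaMorphism.left h4
  let φ₀ := EffectiveEpi.desc f.left mG.left fun g₁ g₂ e => hd g₁ g₂ e
  have hφ₀ : f.left ≫ φ₀ = mG.left := EffectiveEpi.fac f.left _ _
  let φ : I ⟶ G := Over.homMk φ₀ (by
    rw [← cancel_epi f.left, reassoc_of% hφ₀, Over.w mG, Over.w f])
  haveI : Epi f := (Over.forget _).epi_of_epi_map (inferInstanceAs (Epi f.left))
  have hφ : f ≫ φ = mG := Over.OverMorphism.ext hφ₀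
  haveI : IsMonHom mG := isMonHom_pow_id G n
  haveI : Epi (f ⊗ₘ f) := by
    haveI : Flat (f ⊗ₘ f).left :=
      MorphismProperty.pullbackMap (P := @Flat) ‹Flat f.left› ‹Flat f.left› (Over.w f).symm (Over.w f).symm
    haveI : Surjective (f ⊗ₘ f).left :=
      MorphismProperty.pullbackMap (P := @Surjective) ‹Surjective f.left› ‹Surjective f.left› (Over.w f).symm (Over.w f).symm
    haveI : QuasiCompact (f ⊗ₘ f).left :=
      MorphismProperty.pullbackMap (P := @QuasiCompact) (inferInstanceAs (QuasiCompact f.left))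
        (inferInstanceAs (QuasiCompact f.left)) (Over.w f).symm (Over.w f).symm
    exact (Over.forget _).epi_of_epi_map (inferInstanceAs (Epi (f ⊗ₘ f).left))
  haveI : IsMonHom φ := by
    refine ⟨?_, ?_⟩
    · rw [← IsMonHom.one_hom (f := f), Category.assoc, hφ, IsMonHom.one_hom]
    · rw [← cancel_epi (f ⊗ₘ f), ← Category.assoc, ← IsMonHom.mul_hom, Category.assoc, hφ, IsMonHom.mul_hom,
        ← Category.assoc, MonoidalCategory.tensorHom_comp_tensorHom, hφ]
  obtain ⟨M, _, i, hi, hic, hMp, hMg, hM⟩ := S14820.result k G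
  haveI := hi; haveI := hic; haveI := hMp; haveI := hMg
  haveI : GeometricallyReduced I.hom := inferInstance
  obtain ⟨ψ, hψ⟩ := hM I φ inferInstance
  have hI : φ ≫ f = 𝟙 I ^ n := by
    rw [← cancel_epi f, ← Category.assoc, hφ, MonObj.comp_pow, Category.comp_id]
    simp only [mG, MonObj.pow_comp, Category.id_comp]
  haveI := AVMulN.surjective_pow (A := I) n hn
  haveI : IsIntegral M.left := GeometricallyIntegral.isIntegral_of_subsingleton M.hom
  refine ⟨M, i, hic, S7795.result M, hMp, eq_univ_of_surjective f.left i.left.isClosedEmbedding.isClosed_range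
    (Set.eq_univ_of_forall fun y => ?_)⟩
  obtain ⟨x, hx⟩ := (𝟙 I ^ n : I ⟶ I).left.surjective y
  refine ⟨i.left (ψ.left x), ⟨_, rfl⟩, ?_⟩
  rw [← hx, ← hI, ← hψ]
  simp only [Over.comp_left, Scheme.Hom.comp_apply]

end Groth.Agent.PicNormalProper
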