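import Groth.Agent.PicNormalProper.Seesaw
import Groth.Agent.RatPicProd.Core
import Groth.Agent.FpqcPic.Main
import Groth.Agent.GrpSchLib.SmoothReduced
import Groth.Agent.PicSepSmooth.Separated

/-!
# A family of classes on a normal proper variety parametrised by a rational variety is constant
-/

set_option autoImplicit false
set_option linter.style.haveILetI false
set_option backward.isDefEq.respectTransparency false
set_option backward.isDefEq.respectTransparency.types false
set_option maxHeartbeats 1000000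

universe u

open CategoryTheory CategoryTheory.Limits AlgebraicGeometry TopologicalSpace
open scoped Groth.Agent.H23.PicMul
open Groth.Agent.RigDatum

namespace Groth.Agent.PicNormalProper

open Groth.Agent

variable {k : Type u} [Field k]

variable {Y : Scheme.{u}} (f : Y ⟶ Spec (CommRingCat.of k))

/-- The point of an open of the parameter space. -/
noncomputable abbrev ptOver : Over (Spec (CommRingCat.of k)) := Over.mk (𝟙 (Spec (CommRingCat.of k)))

variable [IsAlgClosed k] [IsIntegral Y] [IsProper f]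

/-- The classes at two rational points of a family of classes, which descends fibrewise to a rational variety, agree. -/
theorem slice_eq (hY : Pi1.IsNormalScheme Y) (x₀ : Spec (CommRingCat.of k) ⟶ Y) (hx₀ : x₀ ≫ f = 𝟙 _)
    (O : Over (Spec (CommRingCat.of k))) [IsIntegral O.left] [Smooth O.hom] [IsSeparated O.hom] [QuasiCompact O.hom]
    (hO : Pi1.IsNormalScheme O.left) (U : O.left.Opens) (hU : (U : Set O.left).Nonempty) {n : Type u}
    (V : (𝔸(n; Spec (CommRingCat.of k))).Opens) (e : U.toScheme ≅ V.toScheme)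
    (he : e.hom ≫ V.ι ≫ (𝔸(n; Spec (CommRingCat.of k)) ↘ Spec (CommRingCat.of k)) = U.ι ≫ O.hom)
    {W : Scheme.{u}} (u : W ⟶ O.left) [Etale u] [Surjective u] [QuasiCompact u]
    {c : PicF.Cl (PicF.XT f (AbDual.ovr O u))} (hc : PicF.IsInvertibleCl c)
    (h : ∀ y : (R₂ O u).left, ∃ (K : Type u) (_ : Field K) (q : Spec (CommRingCat.of K) ⟶ (R₂ O u).left),
      q (IsLocalRing.closedPoint K) = y ∧
      PicF.pullCl (pullback.fst (PicF.XTproj f (R₂ O u)) q) (PicF.pullCl (PicF.XTmap f (r₁ O u)) c) =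
        PicF.pullCl (pullback.fst (PicF.XTproj f (R₂ O u)) q) (PicF.pullCl (PicF.XTmap f (r₂ O u)) c))
    (w w' : ptOver ⟶ AbDual.ovr O u) :
    PicF.pullCl (PicF.XTmap f w) c = PicF.pullCl (PicF.XTmap f w') c := by
  haveI : GeometricallyIntegral f := RatPicProd.geometricallyIntegral_of_isAlgClosed f
  haveI : Flat f := inferInstance
  haveI : LocallyOfFinitePresentation f := inferInstance
  haveI : Smooth (R₂ O u).hom := by
    show Smooth (pullback.fst u u ≫ u ≫ O.hom)
    infer_instance
  haveI : IsReduced (R₂ O u).left := GrpSchLib.isReduced_of_smooth_field (R₂ O u).hom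
  haveI : IsLocallyNoetherian (R₂ O u).left := LocallyOfFiniteType.isLocallyNoetherian (R₂ O u).hom
  let c₁ := PicF.pullCl (PicF.XTmap f (r₁ O u)) c
  let c₂ := PicF.pullCl (PicF.XTmap f (r₂ O u)) c
  have hc₁ : PicF.IsInvertibleCl c₁ := PicLoc.isInvertibleCl_pullCl _ hc
  have hc₂ : PicF.IsInvertibleCl c₂ := PicLoc.isInvertibleCl_pullCl _ hc
  obtain ⟨c₂', hc₂', h22⟩ := PicTangent.GroupLaw.exists_inverse hc₂
  let p := PicF.XTproj f (R₂ O u)
  haveI : IsProper p := MorphismProperty.pullback_snd (P := @IsProper) _ _ inferInstance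
  haveI : Flat p := MorphismProperty.pullback_snd (P := @Flat) _ _ inferInstance
  haveI : LocallyOfFinitePresentation p :=
    MorphismProperty.pullback_snd (P := @LocallyOfFinitePresentation) _ _ inferInstance
  haveI : GeometricallyIntegral p := MorphismProperty.pullback_snd (P := @GeometricallyIntegral) _ _ inferInstance
  let sec := PicF.secT f x₀ hx₀ (R₂ O u)
  have hb := eq_pullCl_section p sec (pullback.lift_snd _ _ _) (H23.PicMul.isInvertibleCl_mul hc₁ hc₂')
    (fun y => by
      obtain ⟨K, hK, q, hq, hq'⟩ := h y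
      exact ⟨K, hK, q, hq, (PicSepSmooth.eq_iff_mul_eq_one _ h22).1 hq'⟩)
  obtain ⟨L, hL, hLi⟩ := hc
  have hfb : ∀ V : (Spec (CommRingCat.of k)).Opens, Function.Bijective (f.app V) := fun V =>
    SeesawX.bijective_app_baseChange f (H23.RigidApply.constFibres_of_geometricallyIntegral f)
      (g := 𝟙 _) (fT := f) (gT := 𝟙 Y) (IsPullback.of_horiz_isIso ⟨by simp⟩) V
  haveI : Flat O.hom := inferInstance
  haveI : Flat u := inferInstance
  obtain ⟨M, N, hM, hN, hMN⟩ := FpqcPic.exists_descent_mod_base f x₀ hx₀ hfb O u (L := L) hLi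
    (n := PicF.pullCl sec (c₁ * c₂')) (PicLoc.isInvertibleCl_pullCl _ (H23.PicMul.isInvertibleCl_mul hc₁ hc₂')) (by
      rw [hL]
      show c₁ = c₂ * PicF.pullCl p (PicF.pullCl sec (c₁ * c₂'))
      rw [← hb, mul_left_comm, h22, mul_one])
  have hY' : IsLocallyNoetherian Y := LocallyOfFiniteType.isLocallyNoetherian f
  let sy := pullbackSymmetry O.hom f
  obtain ⟨d₁, d₂, hd₁, hd₂, hd⟩ := RatPicProd.exists_eq_mul O.hom f hO hY U hU V e he
    (c := PicF.pullCl sy.hom (PicF.cl M)) (PicLoc.isInvertibleCl_pullCl _ ⟨M, rfl, hM⟩)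
  have key : ∀ w : ptOver ⟶ AbDual.ovr O u,
      PicF.pullCl (PicF.XTmap f w) c = PicF.pullCl (pullback.fst f (𝟙 (Spec (CommRingCat.of k)))) d₂ := by
    intro w
    have h1 : PicF.pullCl (PicF.XTmap f w) (PicF.pullCl (PicF.XTproj f (AbDual.ovr O u)) (PicF.cl N)) = 1 := by
      rw [← PicLoc.pullCl_comp, show PicF.XTmap f w ≫ PicF.XTproj f (AbDual.ovr O u) =
        pullback.snd f (𝟙 _) ≫ w.left from pullback.lift_snd _ _ _, PicLoc.pullCl_comp,
        RatPicProd.cl_trivial_of_field (PicLoc.isInvertibleCl_pullCl _ ⟨N, rfl, hN⟩), H23.PicMul.pullCl_one]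
    let g : ptOver ⟶ O := w ≫ AbDual.ovrHom O u
    have hg : PicF.XTmap f w ≫ v f O u = (PicF.XTmap f g ≫ sy.inv) ≫ sy.hom := by
      rw [Category.assoc, Iso.inv_hom_id, Category.comp_id, SeesawX.PicSep.XTmap_comp]
    have hM' : PicF.cl M = PicF.pullCl sy.inv (PicF.pullCl sy.hom (PicF.cl M)) := by
      rw [← PicLoc.pullCl_comp, Iso.inv_hom_id, PicLoc.pullCl_id]
    rw [← hL, hMN, H23.PicMul.pullCl_mul, h1, mul_one, ← PicLoc.pullCl_comp, hg, PicLoc.pullCl_comp, hd,
      H23.PicMul.pullCl_mul, ← PicLoc.pullCl_comp, ← PicLoc.pullCl_comp, Category.assoc, Category.assoc,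
      show sy.inv ≫ pullback.fst O.hom f = pullback.snd f O.hom from pullbackSymmetry_inv_comp_fst _ _,
      show sy.inv ≫ pullback.snd O.hom f = pullback.fst f O.hom from pullbackSymmetry_inv_comp_snd _ _,
      show PicF.XTmap f g ≫ pullback.snd f O.hom = pullback.snd f (𝟙 _) ≫ g.left from pullback.lift_snd _ _ _,
      show PicF.XTmap f g ≫ pullback.fst f O.hom = pullback.fst f (𝟙 _) from
        (pullback.lift_fst _ _ _).trans (Category.comp_id _),
      PicLoc.pullCl_comp, RatPicProd.cl_trivial_of_field (PicLoc.isInvertibleCl_pullCl _ hd₁), H23.PicMul.pullCl_one,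
      one_mul]
  rw [key w, key w']

end Groth.Agent.PicNormalProper
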