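import Groth.Agent.PicNormalProper.Const
import Groth.Agent.PicSepSmooth.Triv
import Groth.Agent.CurveEmbed.Equiv
import Groth.Agent.S16121
import Groth.Agent.GrpSchLib.UnitsScheme
import Groth.Agent.PicLfp.Main
import Groth.Agent.GrpSchLib.AntiAffineHom
import Groth.Agent.Neron6.BirOpen
import Groth.Agent.GenDiff29.Basic

/-!
# A map from a linear group to the Picard scheme of a normal proper scheme is constant
-/

set_option autoImplicit false
set_option linter.style.haveILetI false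
set_option backward.isDefEq.respectTransparency false
set_option backward.isDefEq.respectTransparency.types false
set_option maxHeartbeats 1000000

universe u

open CategoryTheory CategoryTheory.Limits AlgebraicGeometry TopologicalSpace MonoidalCategory CartesianMonoidalCategory MonObj
open scoped Groth.Agent.H23.PicMul
open Groth.Agent.RigDatum Groth.Agent.H23.TrivBasic

namespace Groth.Agent.PicNormalProper

open Groth.Agent

/-- Open subschemes of normal schemes are normal. -/
theorem isNormalScheme_opens {X : Scheme.{u}} (hX : Pi1.IsNormalScheme X) (U : X.Opens) :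
    Pi1.IsNormalScheme U.toScheme := fun x => by
  have := (hX (U.ι x)).1
  have := (hX (U.ι x)).2
  let e : U.toScheme.presheaf.stalk x ≃+* X.presheaf.stalk (U.ι x) := (U.stalkIso x).commRingCatIsoToRingEquiv
  exact ⟨e.toMulEquiv.isDomain, IsIntegrallyClosed.of_equiv e.symm⟩

/-- The spectrum of a field is normal. -/
theorem isNormalScheme_Spec {K : Type u} [Field K] : Pi1.IsNormalScheme (Spec (CommRingCat.of K)) := fun x => by
  haveI : Subsingleton (Spec (CommRingCat.of K)) := inferInstanceAs (Subsingleton (PrimeSpectrum K))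
  have h := GenDiff29.isField_stalk_of_eq (Y := Spec (CommRingCat.of K)) (y := x) (Subsingleton.elim _ _)
  letI := h.toField
  exact ⟨inferInstance, inferInstance⟩

variable {k : Type u} [Field k] [IsAlgClosed k] {X : Scheme.{u}} (f : X ⟶ Spec (CommRingCat.of k)) [IsProper f]
  {P : Over (Spec (CommRingCat.of k))} {φ : ∀ T : Over (Spec (CommRingCat.of k)), PicF.Cl (PicF.XT f T) → (T ⟶ P)}

/-- The comparison of base changes for a piece. -/
noncomputable abbrev jT {C : Scheme.{u}} (j : C ⟶ X) (T : Over (Spec (CommRingCat.of k))) :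
    PicF.XT (j ≫ f) T ⟶ PicF.XT f T :=
  pullback.map (j ≫ f) T.hom f T.hom j (𝟙 _) (𝟙 _) (by simp) (by simp)

omit [IsAlgClosed k] [IsProper f] in
theorem XTmap_jT {C : Scheme.{u}} (j : C ⟶ X) {T T' : Over (Spec (CommRingCat.of k))} (g : T' ⟶ T) :
    PicF.XTmap (j ≫ f) g ≫ jT f j T = jT f j T' ≫ PicF.XTmap f g := by
  refine pullback.hom_ext ?_ ?_
  · rw [Category.assoc, Category.assoc, pullback.lift_fst, SeesawX.PicSep.XTmap_fst, pullback.lift_fst,
      ← Category.assoc, SeesawX.PicSep.XTmap_fst]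
  · rw [Category.assoc, Category.assoc, pullback.lift_snd, SeesawX.PicSep.XTmap_snd, Category.comp_id,
      SeesawX.PicSep.XTmap_snd, ← Category.assoc, pullback.lift_snd, Category.comp_id]

/-- On each component, the classes at two points agree. -/
theorem slice_eq_component (hP : PicRel.IsRelPic f P φ) (O : Over (Spec (CommRingCat.of k))) [IsIntegral O.left] [Smooth O.hom] [IsSeparated O.hom]
    [QuasiCompact O.hom] (hO : Pi1.IsNormalScheme O.left) (U : O.left.Opens) (hU : (U : Set O.left).Nonempty)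
    {n : Type u} (V : (𝔸(n; Spec (CommRingCat.of k))).Opens) (e : U.toScheme ≅ V.toScheme)
    (he : e.hom ≫ V.ι ≫ (𝔸(n; Spec (CommRingCat.of k)) ↘ Spec (CommRingCat.of k)) = U.ι ≫ O.hom)
    {W : Scheme.{u}} (u : W ⟶ O.left) [Etale u] [Surjective u] [QuasiCompact u]
    {c : PicF.Cl (PicF.XT f (AbDual.ovr O u))} (hc : PicF.IsInvertibleCl c) (h : O ⟶ P)
    (hφ : φ (AbDual.ovr O u) c = AbDual.ovrHom O u ≫ h)
    {C : Scheme.{u}} (j : C ⟶ X) [IsClosedImmersion j] [IsIntegral C] (hC : Pi1.IsNormalScheme C)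
    (w w' : ptOver ⟶ AbDual.ovr O u) :
    PicF.pullCl (jT f j ptOver) (PicF.pullCl (PicF.XTmap f w) c) =
      PicF.pullCl (jT f j ptOver) (PicF.pullCl (PicF.XTmap f w') c) := by
  haveI := LocallyOfFiniteType.jacobsonSpace (j ≫ f)
  obtain ⟨x, -, hx⟩ := nonempty_inter_closedPoints (X := C) (Z := Set.univ) Set.univ_nonempty isOpen_univ.isLocallyClosed
  let x₀ := ((pointEquivClosedPoint (j ≫ f)).symm ⟨x, hx⟩).1
  have hx₀ : x₀ ≫ j ≫ f = 𝟙 _ := ((pointEquivClosedPoint (j ≫ f)).symm ⟨x, hx⟩).2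
  rw [← PicLoc.pullCl_comp, ← XTmap_jT, PicLoc.pullCl_comp, ← PicLoc.pullCl_comp (jT f j ptOver) (PicF.XTmap f w') c,
    ← XTmap_jT, PicLoc.pullCl_comp]
  refine slice_eq (j ≫ f) hC x₀ hx₀ O hO U hU V e he u (PicLoc.isInvertibleCl_pullCl _ hc) (fun y => ?_) w w'
  have hr : PicF.pullCl (PicF.XTmap f (r₁ O u)) c = PicF.pullCl (PicF.XTmap f (r₁ O u)) c := rfl
  have hφ' : φ (R₂ O u) (PicF.pullCl (PicF.XTmap f (r₁ O u)) c) = φ (R₂ O u) (PicF.pullCl (PicF.XTmap f (r₂ O u)) c) := by
    rw [hP.natural _ _ _ c hc, hP.natural _ _ _ c hc, hφ, ← Category.assoc, ← Category.assoc]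
    exact congrArg (· ≫ h) (Over.OverMorphism.ext pullback.condition)
  obtain ⟨ι', U', hU', hU''⟩ := hP.locallyInjective _ _ _ (PicLoc.isInvertibleCl_pullCl _ hc)
    (PicLoc.isInvertibleCl_pullCl _ hc) hφ'
  obtain ⟨i, a, ha⟩ := hU' y
  let q : Spec ((U' i).left.residueField a) ⟶ (R₂ O u).left := (U' i).left.fromSpecResidueField a ≫ (U' i).hom
  refine ⟨(U' i).left.residueField a, inferInstance, q,
    ((Scheme.Hom.comp_apply _ _ _).trans (congrArg _ (Scheme.fromSpecResidueField_apply _ _))).trans ha, ?_⟩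
  let C₂ := PicF.XTproj (j ≫ f) (R₂ O u)
  let t : pullback C₂ q ⟶ PicF.XT f (PicRel.ovr (R₂ O u) (U' i)) :=
    pullback.lift (pullback.fst C₂ q ≫ pullback.fst (j ≫ f) (R₂ O u).hom ≫ j)
      (pullback.snd C₂ q ≫ (U' i).left.fromSpecResidueField a) (by
        show _ = _ ≫ (U' i).hom ≫ (R₂ O u).hom
        rw [Category.assoc, Category.assoc, pullback.condition, pullback.condition_assoc, Category.assoc]
        simp only [q, Category.assoc])
  have ht : pullback.fst C₂ q ≫ jT f j (R₂ O u) = t ≫ PicF.XTmap f (PicRel.ovrHom (R₂ O u) (U' i)) := by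
    refine pullback.hom_ext ?_ ?_
    · rw [Category.assoc, Category.assoc, pullback.lift_fst, SeesawX.PicSep.XTmap_fst, pullback.lift_fst]
    · rw [Category.assoc, Category.assoc, pullback.lift_snd, SeesawX.PicSep.XTmap_snd, ← Category.assoc t,
        pullback.lift_snd, Category.assoc, Category.comp_id]
      exact pullback.condition
  rw [← PicLoc.pullCl_comp (PicF.XTmap (j ≫ f) (r₁ O u)), XTmap_jT, ← PicLoc.pullCl_comp, ← Category.assoc, ht,
    ← PicLoc.pullCl_comp (PicF.XTmap (j ≫ f) (r₂ O u)), XTmap_jT,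
    ← PicLoc.pullCl_comp (pullback.fst C₂ q) (jT f j (R₂ O u) ≫ PicF.XTmap f (r₂ O u)), ← Category.assoc, ht,
    Category.assoc, Category.assoc, PicLoc.pullCl_comp, PicLoc.pullCl_comp t, PicLoc.pullCl_comp, PicLoc.pullCl_comp]
  exact congrArg (PicF.pullCl t) (hU'' i)

include f in
/-- A normal proper scheme is the disjoint union of finitely many integral normal open and closed subschemes. -/
theorem exists_pieces (hX : Pi1.IsNormalScheme X) :
    ∃ (J : Type u) (C : J → X.Opens), (∀ a b, a ≠ b → C a ⊓ C b = ⊥) ∧ iSup C = ⊤ ∧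
      ∀ a, IsClosedImmersion (C a).ι ∧ IsIntegral (C a).toScheme ∧ Pi1.IsNormalScheme (C a).toScheme := by
  haveI : IsLocallyNoetherian X := LocallyOfFiniteType.isLocallyNoetherian f
  haveI : CompactSpace X := QuasiCompact.compactSpace_of_compactSpace f
  haveI : AlgebraicGeometry.IsNoetherian X := {}
  haveI : ∀ x : X, _root_.IsReduced (X.presheaf.stalk x) := fun x => by
    haveI := (hX x).1
    infer_instance
  haveI : IsReduced X := isReduced_of_isReduced_stalk X
  have hop : ∀ Z ∈ irreducibleComponents X, IsOpen Z := fun Z hZ =>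
    SchTop.isOpen_component_of_finite (X := X) NoetherianSpace.finite_irreducibleComponents (fun x => (hX x).1) hZ
  refine ⟨irreducibleComponents X, fun Z => ⟨Z.1, hop Z.1 Z.2⟩, fun Z Z' hne => ?_, ?_, fun Z => ?_⟩
  · refine le_bot_iff.1 fun x hx => hne (Subtype.ext ?_)
    have h1 : Z'.1 ⊆ Z.1 := Z'.2.1.isPreirreducible.isPreconnected.subset_isClopen
      ⟨isClosed_of_mem_irreducibleComponents _ Z.2, hop Z.1 Z.2⟩ ⟨x, hx.2, hx.1⟩
    exact (Z'.2.2 Z.2.1 h1).antisymm h1
  · refine top_le_iff.1 fun x _ => Opens.mem_iSup.2 ?_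
    exact ⟨⟨irreducibleComponent x, irreducibleComponent_mem_irreducibleComponents x⟩, mem_irreducibleComponent⟩
  · let V : X.Opens := ⟨Z.1, hop Z.1 Z.2⟩
    refine ⟨IsClosedImmersion.of_isPreimmersion _ (by
      rw [Scheme.Opens.range_ι]; exact isClosed_of_mem_irreducibleComponents _ Z.2), ?_, isNormalScheme_opens hX V⟩
    haveI : IrreducibleSpace V.toScheme := isIrreducible_iff_irreducibleSpace.mp Z.2.1
    exact isIntegral_of_irreducibleSpace_of_isReduced _

/-- A map from a smooth connected affine group to the Picard scheme is constant. -/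
theorem hom_eq_const (hP : PicRel.IsRelPic f P φ) [IsSeparated P.hom] (hX : Pi1.IsNormalScheme X)
    (N : Over (Spec (CommRingCat.of k))) [GrpObj N] [IsAffine N.left] [Smooth N.hom] [ConnectedSpace N.left]
    (h : N ⟶ P) : h = toUnit N ≫ η[N] ≫ h := by
  haveI := PicLfp.locallyOfFinitePresentation hP
  haveI : QuasiCompact N.hom := inferInstance
  haveI : IsIntegral N.left := GrpSchLib.Kunneth.isIntegral_grp N
  haveI : IsSeparated N.hom := GrpSchLib.AntiAffine.isSeparated_grp N
  have hN : Pi1.IsNormalScheme N.left := Neron6.isNormalScheme_of_smooth N.hom isNormalScheme_Spec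
  obtain ⟨U₀, n, V₀, e₀, hU₀, he₀⟩ := S16121.result k N
  obtain ⟨J₀, Us, hUs, hcs⟩ := hP.locallySurjective N h
  obtain ⟨i, a, -⟩ := hUs (η[N].left (IsLocalRing.closedPoint k))
  obtain ⟨c₀, hc₀, hφ₀⟩ := hcs i
  obtain ⟨W, hW, haW, -⟩ := exists_isAffineOpen_mem_and_subset (show a ∈ (⊤ : (Us i).left.Opens) from trivial)
  haveI : Etale (Us i).hom := (Us i).prop
  haveI : IsAffine W.toScheme := hW
  let u₀ : W.toScheme ⟶ N.left := W.ι ≫ (Us i).hom
  haveI : Etale u₀ := inferInstance
  let O : N.left.Opens := ⟨Set.range u₀, u₀.isOpenMap.isOpen_range⟩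
  have hOne : Nonempty O.toScheme := ⟨⟨u₀ ⟨a, haW⟩, _, rfl⟩⟩
  let u : W.toScheme ⟶ O.toScheme := IsOpenImmersion.lift O.ι u₀ (by rw [Scheme.Opens.range_ι]; rfl)
  have hu : u ≫ O.ι = u₀ := IsOpenImmersion.lift_fac _ _ _
  let O' : Over (Spec (CommRingCat.of k)) := Over.mk (O.ι ≫ N.hom)
  haveI : Nonempty O'.left := hOne
  haveI : IsIntegral O'.left := isIntegral_of_isOpenImmersion O.ι
  haveI : Smooth O'.hom := inferInstanceAs (Smooth (O.ι ≫ N.hom))
  haveI : IsSeparated O'.hom := inferInstanceAs (IsSeparated (O.ι ≫ N.hom))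
  haveI : CompactSpace O'.left := by
    refine isCompact_iff_compactSpace.mp ?_
    exact isCompact_range u₀.continuous
  haveI : QuasiCompact O'.hom := (quasiCompact_iff_compactSpace _).mpr inferInstance
  haveI : Etale u := by
    haveI : Etale (u ≫ O.ι) := by rw [hu]; infer_instance
    exact Etale.of_comp u O.ι
  haveI : Surjective u := ⟨fun z => by
    obtain ⟨w, hw⟩ : O.ι z ∈ Set.range u₀ := z.2
    exact ⟨w, O.ι.isOpenEmbedding.injective (by rw [← Scheme.Hom.comp_apply, hu, hw])⟩⟩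
  haveI : QuasiCompact u := by
    haveI : CompactSpace W.toScheme := inferInstance
    haveI : IsSeparated (O'.hom) := inferInstance
    haveI : QuasiCompact (u ≫ O'.hom) := (quasiCompact_iff_compactSpace _).mpr inferInstance
    exact QuasiCompact.of_comp u O'.hom
  let h' : O' ⟶ P := (Over.homMk O.ι rfl : O' ⟶ N) ≫ h
  let v : AbDual.ovr O' u ⟶ PicRel.ovr N (Us i) := Over.homMk W.ι (by
    show W.ι ≫ (Us i).hom ≫ N.hom = u ≫ O.ι ≫ N.hom
    rw [reassoc_of% hu, Category.assoc])
  let c := PicF.pullCl (PicF.XTmap f v) c₀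
  have hc : PicF.IsInvertibleCl c := PicLoc.isInvertibleCl_pullCl _ hc₀
  have hφc : φ (AbDual.ovr O' u) c = AbDual.ovrHom O' u ≫ h' := by
    rw [hP.natural _ _ _ _ hc₀, hφ₀, ← Category.assoc]
    show _ = AbDual.ovrHom O' u ≫ (Over.homMk O.ι rfl : O' ⟶ N) ≫ h
    rw [← Category.assoc (AbDual.ovrHom O' u)]
    exact congrArg (· ≫ h) (Over.OverMorphism.ext hu.symm)
  -- a rational open of `O`
  let U : O'.left.Opens := O.ι ⁻¹ᵁ U₀
  let jU : U.toScheme ⟶ U₀.toScheme := O.ι.resLE U₀ U le_rfl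
  haveI : IsOpenImmersion jU := by
    haveI : IsOpenImmersion (jU ≫ U₀.ι) := by rw [Scheme.Hom.resLE_comp_ι]; infer_instance
    exact IsOpenImmersion.of_comp jU U₀.ι
  let aV : U.toScheme ⟶ 𝔸(ULift.{u} (Fin n); Spec (CommRingCat.of k)) := jU ≫ e₀.hom ≫ V₀.ι
  haveI : IsOpenImmersion aV := inferInstance
  have hU : (U : Set O'.left).Nonempty := by
    obtain ⟨z, hz⟩ := nonempty_preirreducible_inter O.isOpen U₀.isOpen ⟨_, hOne.some.2⟩ hU₀
    exact ⟨⟨z, hz.1⟩, hz.2⟩
  have he : aV.isoOpensRange.hom ≫ aV.opensRange.ι ≫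
      (𝔸(ULift.{u} (Fin n); Spec (CommRingCat.of k)) ↘ Spec (CommRingCat.of k)) = U.ι ≫ O'.hom := by
    rw [Scheme.Hom.isoOpensRange_hom_ι_assoc]
    show (jU ≫ e₀.hom ≫ V₀.ι) ≫ _ = U.ι ≫ O.ι ≫ N.hom
    rw [Category.assoc, Category.assoc, he₀, ← Category.assoc, Scheme.Hom.resLE_comp_ι, Category.assoc]
  obtain ⟨J, C, hdisj, hcov, hC⟩ := exists_pieces f hX
  -- all rational points of `O` have the same image
  have key : ∀ w w' : ptOver ⟶ AbDual.ovr O' u, (w ≫ AbDual.ovrHom O' u) ≫ h' = (w' ≫ AbDual.ovrHom O' u) ≫ h' := by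
    intro w w'
    rw [Category.assoc, Category.assoc, ← hφc, ← hP.natural _ _ w c hc, ← hP.natural _ _ w' c hc]
    refine congrArg (φ ptOver) ?_
    obtain ⟨d, hd, hdd⟩ := PicTangent.GroupLaw.exists_inverse
      (PicLoc.isInvertibleCl_pullCl (PicF.XTmap f w') hc)
    obtain ⟨L, hL, hLi⟩ := H23.PicMul.isInvertibleCl_mul (PicLoc.isInvertibleCl_pullCl (PicF.XTmap f w) hc) hd
    let p₁ := pullback.fst f (ptOver (k := k)).hom
    have ht : Triv L := PicSepSmooth.triv_of_disjoint_cover (fun a => p₁ ⁻¹ᵁ C a)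
      (fun a b hab => by
        refine le_bot_iff.1 fun z hz => ?_
        have : p₁ z ∈ C a ⊓ C b := hz
        rw [hdisj a b hab] at this
        exact this)
      (top_le_iff.1 fun z _ => by
        obtain ⟨a, ha⟩ := Opens.mem_iSup.1 (hcov.ge (show p₁ z ∈ (⊤ : X.Opens) from trivial))
        exact Opens.mem_iSup.2 ⟨a, ha⟩)
      fun a => by
        obtain ⟨h1, h2, h3⟩ := hC a
        haveI := h1; haveI := h2
        have hs := slice_eq_component f hP O' (isNormalScheme_opens hN O) U hU aV.opensRange aV.isoOpensRange he u hc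
          h' hφc (C a).ι h3 w w'
        have hT : PicF.pullCl (jT f (C a).ι ptOver) (PicF.cl L) = 1 := by
          rw [hL]
          refine (PicSepSmooth.eq_iff_mul_eq_one _ hdd).1 hs
        let l := IsOpenImmersion.lift (C a).ι ((p₁ ⁻¹ᵁ C a).ι ≫ p₁) (by
          rw [Scheme.Opens.range_ι]; rintro _ ⟨z, rfl⟩; exact z.2)
        have hl : l ≫ (C a).ι = (p₁ ⁻¹ᵁ C a).ι ≫ p₁ := IsOpenImmersion.lift_fac _ _ _
        refine H23.SeesawGlobal.triv_of_factor (pullback.lift l ((p₁ ⁻¹ᵁ C a).ι ≫ pullback.snd f (ptOver (k := k)).hom)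
          (by rw [reassoc_of% hl, Category.assoc, pullback.condition])) ?_ (H23.PicMul.cl_eq_iff.1 hT)
        refine pullback.hom_ext ?_ ?_
        · rw [Category.assoc, pullback.lift_fst, pullback.lift_fst_assoc, hl]
        · rw [Category.assoc, pullback.lift_snd, Category.comp_id, pullback.lift_snd]
    have h1 := (PicSepSmooth.eq_iff_mul_eq_one (𝟙 _) hdd).2 (by
      rw [← hL, PicLoc.pullCl_id]; exact H23.PicMul.cl_eq_iff.2 ht)
    rwa [PicLoc.pullCl_id, PicLoc.pullCl_id] at h1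
  -- pass to closed points
  let uO : W.toScheme ⟶ Spec (CommRingCat.of k) := u ≫ O'.hom
  haveI : LocallyOfFiniteType uO := inferInstance
  haveI := LocallyOfFiniteType.jacobsonSpace uO
  have lift_pt : ∀ z : O'.left, IsClosed ({z} : Set O'.left) → ∃ w : ptOver ⟶ AbDual.ovr O' u,
      (w ≫ AbDual.ovrHom O' u).left (IsLocalRing.closedPoint k) = z := by
    intro z hz
    obtain ⟨y, hy, hyc⟩ := nonempty_inter_closedPoints (X := W.toScheme) (Z := u ⁻¹' {z})
      (u.surjective z) (hz.preimage u.continuous).isLocallyClosed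
    let s := (pointEquivClosedPoint uO).symm ⟨y, hyc⟩
    refine ⟨Over.homMk s.1 s.2, ?_⟩
    show (s.1 ≫ u) (IsLocalRing.closedPoint k) = z
    rw [Scheme.Hom.comp_apply, show s.1 (IsLocalRing.closedPoint k) = y from
      congrArg Subtype.val ((pointEquivClosedPoint uO).apply_symm_apply ⟨y, hyc⟩)]
    exact hy
  haveI := LocallyOfFiniteType.jacobsonSpace O'.hom
  obtain ⟨z₀, -, hz₀⟩ := nonempty_inter_closedPoints (X := O'.left) (Z := Set.univ) ⟨hOne.some, trivial⟩
    isOpen_univ.isLocallyClosed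
  obtain ⟨w₀, hw₀⟩ := lift_pt z₀ hz₀
  let g : ptOver ⟶ P := (w₀ ≫ AbDual.ovrHom O' u) ≫ h'
  let tN : N ⟶ ptOver := Over.homMk N.hom (Category.comp_id _)
  haveI : LocallyOfFiniteType (h.left ≫ P.hom) := by rw [Over.w h]; infer_instance
  have heq : h = tN ≫ g := by
    refine Over.OverMorphism.ext (ext_of_apply_eq P.hom O O.isOpen.isLocallyClosed
      (O.isOpen.dense ⟨_, hOne.some.2⟩) (fun x hx hxc => ?_) ((Over.w h).trans (Over.w (tN ≫ g)).symm))
    obtain ⟨w, hw⟩ := lift_pt ⟨x, hx⟩ (by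
      have h2 : ({⟨x, hx⟩} : Set O'.left) = O.ι ⁻¹' {x} := Set.ext fun y =>
        ⟨fun hy => by rw [Set.mem_singleton_iff.1 hy]; rfl, fun hy => O.ι.isOpenEmbedding.injective hy⟩
      rw [h2]
      exact hxc.preimage O.ι.continuous)
    have h1 := congrArg (fun m : ptOver ⟶ P => m.left (IsLocalRing.closedPoint k)) (key w w₀)
    simp only [Over.comp_left, Scheme.Hom.comp_apply] at h1 hw ⊢
    rw [hw] at h1
    refine h1.trans ?_
    show _ = g.left (N.hom x)
    rw [@Subsingleton.elim ↥(Spec (CommRingCat.of k)) inferInstance (N.hom x) (IsLocalRing.closedPoint k)]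
    rfl
  have hpt : η[N] ≫ tN ≫ g = 𝟙 ptOver ≫ g := by
    rw [← Category.assoc]
    exact congrArg (· ≫ g) (Over.OverMorphism.ext (Over.w η[N]))
  calc h = tN ≫ g := heq
    _ = toUnit N ≫ η[N] ≫ tN ≫ g := by
      rw [hpt, Category.id_comp]
      exact congrArg (· ≫ g) (Over.OverMorphism.ext (by
        show N.hom = (toUnit N).left
        exact (Category.comp_id _).symm.trans (Over.w (toUnit N)) |>.symm))
    _ = toUnit N ≫ η[N] ≫ h := by rw [← heq]

end Groth.Agent.PicNormalProper
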