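import Groth.Agent.PicNormalProper.HomConst
import Groth.Agent.GrpSchLib.IdentityComp
import Groth.Agent.GrpSchLib.RedSubgroup
import Groth.Agent.GrpSchLib.PerfectSmooth
import Groth.Agent.GrpSchLib.FieldAllComp
import Groth.Agent.QCoh.ProperOver
import Groth.Agent.EtFound.Descent
import Groth.Agent.GeomNormal5.Basic
import Groth.Agent.S4141
import Groth.Agent.S17906
import Mathlib.AlgebraicGeometry.Morphisms.FlatMono

/-!
# The neutral component of the Picard scheme of a geometrically normal proper scheme is proper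
-/

set_option autoImplicit false
set_option linter.style.haveILetI false
set_option backward.isDefEq.respectTransparency false
set_option backward.isDefEq.respectTransparency.types false
set_option maxHeartbeats 1000000

universe u

open CategoryTheory CategoryTheory.Limits AlgebraicGeometry TopologicalSpace MonoidalCategory CartesianMonoidalCategory MonObj
open scoped Groth.Agent.H23.PicMul

namespace Groth.Agent.PicNormalProper

open Groth.Agent

/-- A homomorphism with trivial kernel is a monomorphism. -/
theorem mono_of_trivial_kernel {S : Scheme.{u}} {L G Q : Over S} [GrpObj L] [GrpObj G] [GrpObj Q] (l : L ⟶ G) (q : G ⟶ Q)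
    [IsMonHom l] [IsMonHom q] (hk : AlgGrp.IsKernel l q) (h : 𝟙 L = toUnit L ≫ η[L]) : Mono q := by
  refine ⟨fun {T} a b hab => ?_⟩
  have h1 : (a / b) ≫ q = toUnit T ≫ η[Q] := by
    rw [GrpObj.div_comp, hab, div_self', MonObj.one_eq_one, MonObj.comp_one]
  obtain ⟨t, ht, -⟩ := hk.exists_lift (a / b) (toUnit T) h1
  rw [← div_eq_one, ← ht, ← Category.comp_id t, h, ← Category.assoc t, toUnit_unique (t ≫ toUnit L) (toUnit T),
    Category.assoc, IsMonHom.one_hom, MonObj.one_eq_one, MonObj.comp_one]

/-- The neutral component is proper, over an algebraically closed field. -/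
theorem isProper_component_algClosed {K : Type u} [Field K] [IsAlgClosed K] {X : Scheme.{u}}
    (f : X ⟶ Spec (CommRingCat.of K)) [IsProper f] (hX : Pi1.IsNormalScheme X)
    {P : Over (Spec (CommRingCat.of K))} {φ : ∀ T : Over (Spec (CommRingCat.of K)), PicF.Cl (PicF.XT f T) → (T ⟶ P)}
    (hP : PicRel.IsRelPic f P φ) (U : P.left.Opens) :
    letI := PicTangent.GroupLaw.grpObj hP
    (U : Set P.left) = connectedComponent (η[P].left (IsLocalRing.closedPoint K)) → IsProper (U.ι ≫ P.hom) := by
  letI := PicTangent.GroupLaw.grpObj hP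
  intro hU
  haveI := PicLfp.locallyOfFinitePresentation hP
  haveI : IsSeparated P.hom := GrpSchLib.AntiAffine.isSeparated_grp P
  obtain ⟨G₀, _, i₀, hi₀, hci, -, hr, hirr, hcomp⟩ := GrpSchLib.exists_identityComponent (G := P)
  haveI := hci; haveI := hirr; haveI := hcomp
  haveI : LocallyOfFiniteType G₀.hom := by rw [← Over.w i₀]; infer_instance
  haveI : QuasiCompact G₀.hom := (quasiCompact_iff_compactSpace _).mpr inferInstance
  obtain ⟨H, _, i₁, hi₁, hc₁, hred, hsurj, hlft, hqc⟩ := GrpSchLib.RedSubgroup.exists_redSubgroup G₀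
  haveI := hc₁; haveI := hred; haveI := hsurj; haveI := hlft; haveI := hqc
  haveI : Smooth H.hom := GrpSchLib.smooth_of_perfectField_of_isReduced H
  haveI : ConnectedSpace H.left := by
    have hinj : Function.Injective i₁.left := i₁.left.isEmbedding.injective
    have hh : IsHomeomorph i₁.left :=
      ⟨i₁.left.continuous, fun O hO => by
        have h1 : IsClosed (i₁.left '' Oᶜ) := i₁.left.isClosedMap _ hO.isClosed_compl
        rw [Set.image_compl_eq ⟨hinj, i₁.left.surjective⟩] at h1
        exact isClosed_compl_iff.1 h1, hinj, i₁.left.surjective⟩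
    haveI : IrreducibleSpace G₀.left := GeometricallyIrreducible.irreducibleSpace_of_subsingleton G₀.hom
    exact hh.homeomorph.symm.surjective.connectedSpace hh.homeomorph.symm.continuous
  obtain ⟨L, _, l, Q, _, q, hl, hlc, hLa, hLs, hLc, -, hq, hqs, hqf, hk, hQp, -, -, -⟩ := S4141.result K H
  haveI := hl; haveI := hlc; haveI := hLa; haveI := hLs; haveI := hLc; haveI := hq; haveI := hqs; haveI := hqf
  haveI := hQp
  have hc := hom_eq_const f hP hX L (l ≫ i₁ ≫ i₀)
  haveI : Mono (l ≫ i₁ ≫ i₀).left := by
    show Mono (l.left ≫ i₁.left ≫ i₀.left)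
    infer_instance
  haveI : Mono (l ≫ i₁ ≫ i₀) := (Over.forget _).mono_of_mono_map (inferInstanceAs (Mono (l ≫ i₁ ≫ i₀).left))
  have hid : 𝟙 L = toUnit L ≫ η[L] := (cancel_mono (l ≫ i₁ ≫ i₀)).1 (by rw [Category.id_comp, Category.assoc]; exact hc)
  haveI : Mono q := mono_of_trivial_kernel l q hk hid
  haveI : Mono q.left := inferInstance
  haveI : LocallyOfFinitePresentation q.left := by
    haveI : LocallyOfFiniteType (q.left ≫ Q.hom) := by rw [Over.w q]; infer_instance
    haveI : LocallyOfFiniteType q.left := locallyOfFiniteType_of_comp q.left Q.hom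
    haveI : IsLocallyNoetherian Q.left := LocallyOfFiniteType.isLocallyNoetherian Q.hom
    infer_instance
  haveI : IsOpenImmersion q.left := IsOpenImmersion.of_flat_of_mono q.left
  haveI : IsIso q.left := isIso_of_isOpenImmersion_of_opensRange_eq_top q.left
    (Opens.ext q.left.surjective.range_eq)
  haveI : IsProper H.hom := by rw [← Over.w q]; infer_instance
  let m := i₁.left ≫ i₀.left
  have hm : Set.range m ⊆ Set.range U.ι := by
    rw [Scheme.Opens.range_ι, hU, ← hr]
    rintro _ ⟨z, rfl⟩
    exact ⟨i₁.left z, (Scheme.Hom.comp_apply _ _ _).symm⟩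
  let m' := IsOpenImmersion.lift U.ι m hm
  have hm' : m' ≫ U.ι = m := IsOpenImmersion.lift_fac _ _ _
  haveI : IsClosedImmersion m' := by
    haveI : IsClosedImmersion (m' ≫ U.ι) := by rw [hm']; infer_instance
    exact IsClosedImmersion.of_comp m' U.ι
  haveI : Surjective m' := ⟨fun z => by
    have hz : U.ι z ∈ Set.range i₀.left := by rw [hr, ← hU]; exact z.2
    obtain ⟨y, hy⟩ := hz
    obtain ⟨w, hw⟩ := i₁.left.surjective y
    refine ⟨w, U.ι.isOpenEmbedding.injective ?_⟩
    rw [← Scheme.Hom.comp_apply, hm', Scheme.Hom.comp_apply, hw, hy]⟩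
  haveI : IsProper (m' ≫ U.ι ≫ P.hom) := by
    rw [← Category.assoc, hm', Category.assoc, Over.w i₀, Over.w i₁]
    infer_instance
  exact QCoh.isProper_of_comp_surjective m' (U.ι ≫ P.hom)

/-- The neutral component is proper. -/
theorem isProper_component {k : Type u} [Field k] {X : Scheme.{u}} (f : X ⟶ Spec (CommRingCat.of k)) [IsProper f]
    (hnorm : ∀ (k' : Type u) [Field k'] [Algebra k k'], Module.Finite k k' →
      Pi1.IsNormalScheme (pullback f (Spec.map (CommRingCat.ofHom (algebraMap k k')))))
    {P : Over (Spec (CommRingCat.of k))} {φ : ∀ T : Over (Spec (CommRingCat.of k)), PicF.Cl (PicF.XT f T) → (T ⟶ P)}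
    (hP : PicRel.IsRelPic f P φ) (U : P.left.Opens)
    (hU : (U : Set P.left) = connectedComponent ((φ (Over.mk (𝟙 _)) 1).left (IsLocalRing.closedPoint k)))
    [GeometricallyIrreducible (U.ι ≫ P.hom)] : IsProper (U.ι ≫ P.hom) := by
  let K := AlgebraicClosure k
  let b : Spec (CommRingCat.of K) ⟶ Spec (CommRingCat.of k) := Spec.map (CommRingCat.ofHom (algebraMap k K))
  letI : X.Over (Spec (CommRingCat.of k)) := ⟨f⟩
  have hX : Pi1.IsNormalScheme (pullback f b) :=
    GeomNormal5.isNormalScheme_bc_of_insep (X := X) (fun k' _ _ _ _ => hnorm k' inferInstance) K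
  have hP' := S17906.result f b P φ hP
  letI := PicTangent.GroupLaw.grpObj hP'
  haveI := PicLfp.locallyOfFinitePresentation hP'
  let P' : Over (Spec (CommRingCat.of K)) := Over.mk (pullback.snd P.hom b)
  haveI : IsLocallyNoetherian P'.left := LocallyOfFiniteType.isLocallyNoetherian P'.hom
  let U' : P'.left.Opens :=
    ⟨connectedComponent (η[P'].left (IsLocalRing.closedPoint K)), GrpSchLib.isOpen_connectedComponent _⟩
  haveI := isProper_component_algClosed (pullback.snd f b) hX hP' U' rfl
  -- the unit lies over the unit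
  have he : pullback.fst P.hom b (η[P'].left (IsLocalRing.closedPoint K)) =
      (φ (Over.mk (𝟙 _)) 1).left (IsLocalRing.closedPoint k) := by
    let T : Over (Spec (CommRingCat.of k)) := Over.mk (𝟙 (Spec (CommRingCat.of K)) ≫ b)
    let sT : T ⟶ Over.mk (𝟙 (Spec (CommRingCat.of k))) := Over.homMk T.hom (Category.comp_id _)
    have h1 : η[P'].left ≫ pullback.fst P.hom b = sT.left ≫ (φ (Over.mk (𝟙 _)) 1).left := by
      rw [PicTangent.GroupLaw.one_eq hP']
      refine (pullback.lift_fst _ _ _).trans ?_
      refine (congrArg CommaMorphism.left ?_).trans (Over.comp_left _ _ _ _ _)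
      rw [show PicF.cl (Coh.structureModule (PicF.XT (pullback.snd f b) (Over.mk (𝟙 (Spec (CommRingCat.of K)))))) = 1 from rfl,
        H23.PicMul.pullCl_one]
      exact (PicTangent.GroupLaw.comp_one hP sT).symm
    refine (Scheme.Hom.comp_apply η[P'].left (pullback.fst P.hom b) _).symm.trans ?_
    refine (congrArg (fun g => (g : Spec (CommRingCat.of K) ⟶ P.left) (IsLocalRing.closedPoint K)) h1).trans ?_
    exact (Scheme.Hom.comp_apply _ _ _).trans
      (congrArg _ (@Subsingleton.elim ↥(Spec (CommRingCat.of k)) inferInstance _ _))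
  let m : pullback (U.ι ≫ P.hom) b ⟶ P'.left :=
    pullback.map (U.ι ≫ P.hom) b P.hom b U.ι (𝟙 _) (𝟙 _) (by simp) (by simp)
  have hr : Set.range m = pullback.fst P.hom b ⁻¹' (U : Set P.left) :=
    (Scheme.Pullback.range_map _ _ _ _ _ _ _ _ _).trans (by simp)
  haveI : UniversallyOpen b := inferInstance
  have hpre : _root_.IsPreconnected (Set.range m) := by
    rw [← Set.image_univ]
    exact isPreconnected_univ.image _ m.continuous.continuousOn
  have hm : Set.range m = Set.range U'.ι := by
    have hmem : η[P'].left (IsLocalRing.closedPoint K) ∈ Set.range m := by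
      rw [hr]
      refine hU.ge ?_
      exact he ▸ mem_connectedComponent
    have hsub : ∀ z, z ∈ connectedComponent (η[P'].left (IsLocalRing.closedPoint K)) → z ∈ Set.range m := by
      intro z hz
      rw [hr]
      refine hU.ge ?_
      exact he ▸ (pullback.fst P.hom b).continuous.image_connectedComponent_subset _ ⟨z, hz, rfl⟩
    rw [Scheme.Opens.range_ι]
    exact Set.Subset.antisymm (hpre.subset_connectedComponent hmem) hsub
  have hs : IsProper (pullback.snd (U.ι ≫ P.hom) b) := by
    have h : pullback.snd (U.ι ≫ P.hom) b = (IsOpenImmersion.isoOfRangeEq m U'.ι hm).hom ≫ U'.ι ≫ P'.hom := by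
      rw [IsOpenImmersion.isoOfRangeEq_hom_fac_assoc]
      exact ((pullback.lift_snd _ _ _).trans (Category.comp_id _)).symm
    rw [h]
    infer_instance
  haveI := EtFound.fpqc_isProper.{u}
  exact MorphismProperty.of_pullback_snd_of_descendsAlong
    (Q := (@Surjective ⊓ @Flat ⊓ @QuasiCompact : MorphismProperty Scheme.{u}))
    ⟨⟨inferInstanceAs (Surjective b), inferInstanceAs (Flat b)⟩, inferInstanceAs (QuasiCompact b)⟩ hs

end Groth.Agent.PicNormalProper
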