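import Groth.Agent.SeesawX.Unit
import Groth.Agent.H23.SeesawGlobal
import Groth.Agent.SeesawX.PicSep
import Groth.Agent.PicTangent.GroupLaw
import Groth.Agent.RatPicProd.Core

/-!
# Fibrewise trivial classes come from the base
-/

set_option autoImplicit false
set_option linter.style.haveILetI false
set_option backward.isDefEq.respectTransparency false
set_option backward.isDefEq.respectTransparency.types false

universe u

open CategoryTheory CategoryTheory.Limits AlgebraicGeometry
open Groth.Agent.H23.TrivBasic Groth.Agent.H23.SeesawGlobal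
open scoped Groth.Agent.H23.PicMul

namespace Groth.Agent.PicNormalProper

variable {X Y : Scheme.{u}} (p : X ⟶ Y) [IsProper p] [Flat p] [LocallyOfFinitePresentation p] [GeometricallyIntegral p]
  [IsLocallyNoetherian Y]

omit [Flat p] [LocallyOfFinitePresentation p] [IsLocallyNoetherian Y] in
theorem fieldH0 (y : Y) : FieldH0 p y := fun K _ k _ =>
  H23.Rigid.bijective_appTop (k := K) (pullback.snd p k)

/-- A class trivial on the fibres over a reduced base is pulled back from the base. -/
theorem eq_pullCl_section [IsReduced Y] (σ : Y ⟶ X) (hσ : σ ≫ p = 𝟙 Y) {c : PicF.Cl X} (hc : PicF.IsInvertibleCl c)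
    (h : ∀ y : Y, ∃ (K : Type u) (_ : Field K) (k : Spec (CommRingCat.of K) ⟶ Y),
      k (IsLocalRing.closedPoint K) = y ∧ PicF.pullCl (pullback.fst p k) c = 1) :
    c = PicF.pullCl p (PicF.pullCl σ c) := by
  obtain ⟨⟨e, he⟩, hce⟩ := H23.PicMul.exists_inv (⟨PicF.pullCl σ c, PicLoc.isInvertibleCl_pullCl σ hc⟩ : PicLoc.PicSet Y)
  have hce' : PicF.pullCl σ c * e = 1 := (mul_comm _ _).trans hce
  obtain ⟨L, hL, hLi⟩ := H23.PicMul.isInvertibleCl_mul hc (PicLoc.isInvertibleCl_pullCl p he)
  have hs : Triv ((Scheme.Modules.pullback σ).obj L) := H23.PicMul.cl_eq_iff.1 (by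
    show PicF.pullCl σ (PicF.cl L) = 1
    rw [hL, H23.PicMul.pullCl_mul, ← PicLoc.pullCl_comp, hσ, PicLoc.pullCl_id, hce'])
  have hT : ∀ y : Y, FieldTriv p L y := fun y => by
    obtain ⟨K, _, k, hk, hk1⟩ := h y
    refine fieldTriv_of_point (f := p) (hL := hLi) K k hk (H23.PicMul.cl_eq_iff.1 ?_)
    show PicF.pullCl (pullback.fst p k) (PicF.cl L) = 1
    rw [hL, H23.PicMul.pullCl_mul, hk1, one_mul, ← PicLoc.pullCl_comp, pullback.condition,
      PicLoc.pullCl_comp]
    have : PicF.pullCl k e = 1 := RatPicProd.cl_trivial_of_field (PicLoc.isInvertibleCl_pullCl k he)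
    rw [this, H23.PicMul.pullCl_one]
  have hb : ∀ V : Y.Opens, Function.Bijective (p.app V) := fun V =>
    SeesawX.bijective_app_baseChange p (H23.RigidApply.constFibres_of_geometricallyIntegral p)
      (g := 𝟙 Y) (fT := p) (gT := 𝟙 X) (IsPullback.of_horiz_isIso ⟨by simp⟩) V
  have ht : Triv L := triv_of_section (f := p) (h0 := hb) σ hσ hs
    fun y => exists_frame_of_isReduced (f := p) (hL := hLi) (fieldH0 p) hT y
  have h1 : c * PicF.pullCl p e = 1 := hL.symm.trans (H23.PicMul.cl_eq_iff.2 ht)
  calc c = c * PicF.pullCl p (PicF.pullCl σ c * e) := by rw [hce', H23.PicMul.pullCl_one, mul_one]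
    _ = PicF.pullCl p (PicF.pullCl σ c) := by rw [H23.PicMul.pullCl_mul, mul_left_comm, h1, mul_one]

end Groth.Agent.PicNormalProper
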